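import Groth.Agent.Lib.Chev24.AffPart
import Groth.Agent.Lib.AlbTors16.Main
import Groth.Agent.Lib.AbAff14.Core
import Groth.Agent.Lib.AntMax16.Main

/-!
# Consequences of Chevalley's theorem: images of the affine part, products with the anti-affine part
-/

set_option autoImplicit false
set_option linter.style.haveILetI false
set_option backward.isDefEq.respectTransparency false
set_option maxHeartbeats 1000000
set_option synthInstance.maxHeartbeats 200000

universe u

open CategoryTheory CategoryTheory.Limits MonoidalCategory CartesianMonoidalCategory MonObj GrpObj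
open AlgebraicGeometry Topology

noncomputable section

namespace GrothLib.AffPart16

attribute [-instance] Hom.commGroup Hom.commMonoid CommGrpObj.toIsCommMonObj

variable {k : Type u} [Field k]

theorem surjective_tensor {A A' B B' : Over (Spec (CommRingCat.of k))} (f : A ⟶ A') (g : B ⟶ B') [Surjective f.left]
    [Surjective g.left] : Surjective (f ⊗ₘ g).left := by
  haveI : Surjective (f ▷ B).left := ⟨fun x => by
    obtain ⟨T', c, a, hc, ha⟩ := AntMax16.exists_cover f (fst A' B)
    obtain ⟨t, rfl⟩ := hc.surj x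
    refine ⟨(lift a (c ≫ snd A' B)).left t, ?_⟩
    have e : lift a (c ≫ snd A' B) ≫ (f ▷ B) = c := by
      apply CartesianMonoidalCategory.hom_ext <;> simp [ha]
    rw [← Scheme.Hom.comp_apply, ← Over.comp_left, e]⟩
  haveI : Surjective (A' ◁ g).left := ⟨fun x => by
    obtain ⟨T', c, a, hc, ha⟩ := AntMax16.exists_cover g (snd A' B')
    obtain ⟨t, rfl⟩ := hc.surj x
    refine ⟨(lift (c ≫ fst A' B') a).left t, ?_⟩
    have e : lift (c ≫ fst A' B') a ≫ (A' ◁ g) = c := by
      apply CartesianMonoidalCategory.hom_ext <;> simp [ha]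
    rw [← Scheme.Hom.comp_apply, ← Over.comp_left, e]⟩
  rw [MonoidalCategory.tensorHom_def, Over.comp_left]
  infer_instance

theorem prod_eq {A B G : Over (Spec (CommRingCat.of k))} [GrpObj G] (a : A ⟶ G) (b : B ⟶ G) :
    (a ⊗ₘ b) ≫ μ[G] = (fst A B ≫ a) * (snd A B ≫ b) := by
  rw [Hom.mul_def, ← lift_map, lift_fst_snd, Category.id_comp]

/-- The product of two subgroups in either order has the same surjectivity. -/
theorem surjective_swap {A B G : Over (Spec (CommRingCat.of k))} [GrpObj A] [GrpObj B] [GrpObj G]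
    (a : A ⟶ G) [IsMonHom a] (b : B ⟶ G) [IsMonHom b] (h : Surjective ((a ⊗ₘ b) ≫ μ[G]).left) :
    Surjective ((b ⊗ₘ a) ≫ μ[G]).left := by
  have e : lift (snd A B)⁻¹ (fst A B)⁻¹ ≫ (b ⊗ₘ a) ≫ μ[G] = ((a ⊗ₘ b) ≫ μ[G]) ≫ ι := by
    rw [← Category.assoc, lift_map, ← Hom.mul_def, GrpObj.inv_comp, GrpObj.inv_comp, prod_eq, ← Hom.inv_def,
      _root_.mul_inv_rev]
  haveI := h
  have hinv : (ι : G ⟶ G) ≫ ι = 𝟙 G := by
    rw [← Hom.inv_def, ← Category.id_comp (ι : G ⟶ G), ← Hom.inv_def, _root_.inv_inv]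
  haveI : IsIso (ι : G ⟶ G) := ⟨ι, hinv, hinv⟩
  haveI : IsIso (ι : G ⟶ G).left := inferInstanceAs (IsIso ((Over.forget _).map (ι : G ⟶ G)))
  haveI : Surjective (((a ⊗ₘ b) ≫ μ[G]).left ≫ (ι : G ⟶ G).left) := inferInstance
  haveI : Surjective ((lift (snd A B)⁻¹ (fst A B)⁻¹).left ≫ ((b ⊗ₘ a) ≫ μ[G]).left) := by
    rw [← Over.comp_left, e, Over.comp_left]; infer_instance
  exact Surjective.of_comp (lift (snd A B)⁻¹ (fst A B)⁻¹).left _

/-- A reduced group covered by a commuting family is commutative. -/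
theorem isCommMonObj_of_surjective [PerfectField k] {X G : Over (Spec (CommRingCat.of k))} [GrpObj G]
    [Smooth G.hom] (m : X ⟶ G) [Surjective m.left]
    (h : ∀ (T : Over (Spec (CommRingCat.of k))) (a b : T ⟶ X), (a ≫ m) * (b ≫ m) = (b ≫ m) * (a ≫ m)) :
    IsCommMonObj G := by
  haveI : IsSeparated G.hom := GrpSchField.isSeparated G
  haveI : IsReduced G.left := Rigidity.isReduced_of_smooth G.hom
  haveI : IsReduced (G ⊗ G).left := GrpSchField.isReduced_pullback G.hom G.hom
  haveI := surjective_tensor m m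
  constructor
  have e : (β_ G G).hom ≫ μ[G] = snd G G * fst G G := by
    rw [Hom.mul_def]
    congr 1
  rw [e]
  have e' : μ[G] = fst G G * snd G G := by rw [Hom.mul_def, lift_fst_snd, Category.id_comp]
  rw [e']
  refine Over.OverMorphism.ext (ext_of_isDominant_of_isSeparated G.hom ?_ (m ⊗ₘ m).left ?_)
  · rw [Over.w, Over.w]
  · rw [← Over.comp_left, ← Over.comp_left, MonObj.comp_mul, MonObj.comp_mul, tensorHom_fst, tensorHom_snd, h]

/-- The image of a normal affine subgroup in a quotient. -/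
theorem exists_image_normal [PerfectField k] {G Q : Over (Spec (CommRingCat.of k))} [GrpObj G] [Smooth G.hom] [QuasiCompact G.hom] [GrpObj Q] [LocallyOfFiniteType Q.hom]
    [QuasiCompact Q.hom] (q : G ⟶ Q) [IsMonHom q] [Surjective q.left] [Flat q.left]
    {N : Over (Spec (CommRingCat.of k))} [GrpObj N] (i : N ⟶ G) [IsMonHom i] [IsClosedImmersion i.left]
    [Smooth N.hom] [ConnectedSpace N.left] [IsAffine N.left] (hN : AlgGrp.IsNormalHom i) :
    ∃ (I : Over (Spec (CommRingCat.of k))) (_ : GrpObj I) (jI : I ⟶ Q) (p : N ⟶ I), IsMonHom jI ∧ IsMonHom p ∧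
      IsClosedImmersion jI.left ∧ Smooth I.hom ∧ ConnectedSpace I.left ∧ IsAffine I.left ∧
      AlgGrp.IsNormalHom jI ∧ Surjective p.left ∧ p ≫ jI = i ≫ q := by
  haveI : IsSeparated G.hom := GrpSchField.isSeparated G
  haveI : IsSeparated Q.hom := GrpSchField.isSeparated Q
  haveI : QuasiCompact N.hom := by rw [← Over.w i]; infer_instance
  haveI : QuasiCompact (i ≫ q).left := by
    haveI : QuasiCompact ((i ≫ q).left ≫ Q.hom) := by rw [Over.w]; infer_instance
    exact QuasiCompact.of_comp _ Q.hom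
  obtain ⟨I, _, p, jI, hp, hjI, hpj, hps, hpf, hplfp, hm, hIlft, -⟩ := GrothLib.Neutral.exists_factor_field (i ≫ q)
  haveI := hp; haveI := hjI; haveI := hm; haveI := hps; haveI := hpf; haveI := hplfp; haveI := hIlft
  haveI := (GrothLib.Neutral.isClosedImmersion_factor (i ≫ q) hpj).1
  haveI : Smooth I.hom := GrothLib.FppfSource.fppfSourceDescends_smooth p.left I.hom hpf hplfp hps
    (by rw [Over.w p]; infer_instance)
  haveI : ConnectedSpace I.left := p.left.surjective.connectedSpace p.left.continuous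
  haveI : IsAffine I.left := GrothLib.Chevalley.isAffine_of_surjective_hom p
  haveI : QuasiCompact I.hom := by rw [← Over.w jI]; infer_instance
  refine ⟨I, inferInstance, jI, p, hjI, hp, inferInstance, inferInstance, inferInstance, inferInstance, ?_, hps, hpj⟩
  let c : Q ⊗ I ⟶ Q := fst Q I * (snd Q I ≫ jI) * (fst Q I)⁻¹
  obtain ⟨n', hn'⟩ := hN (G ⊗ N) (fst G N) (snd G N)
  have hfac : (q ⊗ₘ p) ≫ c = (n' ≫ p) ≫ jI := by
    rw [Category.assoc, hpj, ← Category.assoc n' i q, ← hn']
    simp only [c, MonObj.comp_mul, MonObj.mul_comp, GrpObj.comp_inv, GrpObj.inv_comp, tensorHom_fst, tensorHom_fst_assoc,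
      tensorHom_snd_assoc, Category.assoc, hpj]
  haveI : LocallyOfFinitePresentation q.left := by
    haveI : IsLocallyNoetherian Q.left := LocallyOfFiniteType.isLocallyNoetherian Q.hom
    haveI : LocallyOfFiniteType (q.left ≫ Q.hom) := by rw [Over.w q]; infer_instance
    haveI := locallyOfFiniteType_of_comp q.left Q.hom
    infer_instance
  have hcov : GrothLib.Chevalley.IsCover (q ⊗ₘ p) := GrothLib.Chevalley.cover_tensor ⟨‹_›, ‹_›, ‹_›⟩ ⟨hpf, hps, hplfp⟩
  haveI := hcov.2.1
  haveI : IsReduced Q.left := by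
    haveI : Smooth Q.hom := GrothLib.FppfSource.fppfSourceDescends_smooth q.left Q.hom ‹_› ‹_› ‹_›
      (by rw [Over.w q]; infer_instance)
    exact GrothLib.Rigidity.isReduced_of_smooth Q.hom
  haveI : IsReduced I.left := GrothLib.Rigidity.isReduced_of_smooth I.hom
  haveI : IsReduced (Q ⊗ I).left := GrothLib.GrpSchField.isReduced_pullback Q.hom I.hom
  obtain ⟨l, hl⟩ := GrothLib.RedSub.exists_lift c.left jI.left (by
    rintro _ ⟨x, rfl⟩
    obtain ⟨y, rfl⟩ := (q ⊗ₘ p).left.surjective x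
    refine ⟨(n' ≫ p).left y, ?_⟩
    rw [← Scheme.Hom.comp_apply, ← Over.comp_left, ← hfac]
    rfl)
  let c' : Q ⊗ I ⟶ I := Over.homMk l (by rw [← Over.w jI, reassoc_of% hl]; exact Over.w c)
  have hc' : c' ≫ jI = c := Over.OverMorphism.ext hl
  intro T g x
  refine ⟨lift g x ≫ c', ?_⟩
  rw [Category.assoc, hc']
  simp only [c, MonObj.comp_mul, GrpObj.comp_inv, lift_fst, lift_snd_assoc]


/-- Descent of a homomorphism along a quotient by a kernel. -/
theorem exists_desc_ker {K G Q D : Over (Spec (CommRingCat.of k))} [GrpObj K] [GrpObj G] [GrpObj Q] [GrpObj D]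
    [LocallyOfFiniteType G.hom] [LocallyOfFiniteType Q.hom]
    {u : K ⟶ G} (q : G ⟶ Q) [IsMonHom q] [Flat q.left] [Surjective q.left] (hk : AlgGrp.IsKernel u q)
    (d : G ⟶ D) [IsMonHom d] (hd : u ≫ d = 1) : ∃ e : Q ⟶ D, IsMonHom e ∧ q ≫ e = d := by
  haveI := AlbTors16.lfp_of_surj q
  refine AbAff14.exists_desc_hom q d fun T x hx => ?_
  obtain ⟨z, rfl⟩ := GrpSchField.exists_lift_of_comp_eq_one hk x hx
  rw [Category.assoc, hd, MonObj.comp_one]

/-- A normal affine subgroup with proper quotient contains every smooth connected affine subgroup. -/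
theorem le_of_isProper_quot {G Q N : Over (Spec (CommRingCat.of k))} [GrpObj G] [GrpObj Q] [GrpObj N]
    [IsProper Q.hom] {K : Over (Spec (CommRingCat.of k))} {u : K ⟶ G} (q : G ⟶ Q) [IsMonHom q]
    (hk : AlgGrp.IsKernel u q) (i : N ⟶ G) [IsMonHom i] [Smooth N.hom] [ConnectedSpace N.left] [IsAffine N.left] :
    ∃ f : N ⟶ K, f ≫ u = i := by
  haveI : IsReduced N.left := Rigidity.isReduced_of_smooth N.hom
  exact GrpSchField.exists_lift_of_comp_eq_one hk i (AlbTors16.hom_eq_one_affine_proper (i ≫ q))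

theorem isProper_of_surjective {X Y : Over (Spec (CommRingCat.of k))} [IsProper X.hom] [LocallyOfFiniteType Y.hom]
    [IsSeparated Y.hom] (f : X ⟶ Y) [Surjective f.left] : IsProper Y.hom := by
  haveI : UniversallyClosed (f.left ≫ Y.hom) := by rw [Over.w f]; infer_instance
  haveI := UniversallyClosed.of_comp_surjective f.left Y.hom
  exact { }

/-- The image of the affine part surjects on the affine part of a quotient group. -/
theorem surjective_affPart [PerfectField k] {G Q NG NQ A : Over (Spec (CommRingCat.of k))} [GrpObj G] [GrpObj Q]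
    [GrpObj NG] [GrpObj NQ] [GrpObj A]
    [Smooth G.hom] [QuasiCompact G.hom] [Smooth Q.hom] [QuasiCompact Q.hom]
    (π : G ⟶ Q) [IsMonHom π] [Flat π.left] [Surjective π.left]
    (iG : NG ⟶ G) [IsMonHom iG] [IsClosedImmersion iG.left]
    [Smooth NG.hom] [ConnectedSpace NG.left] [IsAffine NG.left] (hNG : AlgGrp.IsNormalHom iG)
    (qA : G ⟶ A) [IsMonHom qA] [Flat qA.left] [Surjective qA.left] [IsProper A.hom]
    (hA : AlgGrp.IsKernel iG qA)
    (iQ : NQ ⟶ Q) [IsMonHom iQ] [IsClosedImmersion iQ.left] [Smooth NQ.hom] [ConnectedSpace NQ.left]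
    [IsAffine NQ.left] (f : NG ⟶ NQ) (hf : f ≫ iQ = iG ≫ π) : Surjective f.left := by
  obtain ⟨I, _, jI, p, hjI, hp, hjIc, hIs, hIc, hIa, hIn, hps, hpj⟩ := exists_image_normal π iG hNG
  haveI := hjI; haveI := hp; haveI := hjIc; haveI := hIs; haveI := hIc; haveI := hIa
  obtain ⟨R, _, r, hr, hRs, hRq, hrf, hrs, -, hker⟩ := Chev24.exists_quot jI hIn
  haveI := hr; haveI := hRs; haveI := hRq; haveI := hrf; haveI := hrs
  obtain ⟨e, he, hqe⟩ := exists_desc_ker qA hA (π ≫ r) (by
    rw [← Category.assoc, ← hpj, Category.assoc, GrpSchField.comp_eq_one hker, MonObj.comp_one])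
  haveI : IsSeparated R.hom := GrpSchField.isSeparated R
  haveI : Surjective e.left := by
    haveI : Surjective (qA.left ≫ e.left) := by rw [← Over.comp_left, hqe, Over.comp_left]; infer_instance
    exact Surjective.of_comp qA.left e.left
  haveI := isProper_of_surjective e
  obtain ⟨l, hl⟩ := le_of_isProper_quot r hker iQ
  refine ⟨fun x => ?_⟩
  obtain ⟨y, hy⟩ := hps.surj (l.left x)
  refine ⟨y, iQ.left.isClosedEmbedding.injective ?_⟩
  rw [← Scheme.Hom.comp_apply, ← Over.comp_left, hf, ← hpj, Over.comp_left, Scheme.Hom.comp_apply, hy,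
    ← Scheme.Hom.comp_apply, ← Over.comp_left, hl]

end GrothLib.AffPart16
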