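import Groth.Agent.Lib.AffPart16.Basic
import Groth.Agent.Lib.Flag27.Conj

/-!
# The affine part of a smooth group which need not be connected
-/

set_option autoImplicit false
set_option linter.style.haveILetI false
set_option backward.isDefEq.respectTransparency false
set_option maxHeartbeats 1000000
set_option synthInstance.maxHeartbeats 200000

universe u

open CategoryTheory CategoryTheory.Limits MonoidalCategory CartesianMonoidalCategory MonObj GrpObj
open AlgebraicGeometry Topology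

noncomputable section

namespace GrothLib.AffPart16

attribute [-instance] Hom.commGroup Hom.commMonoid CommGrpObj.toIsCommMonObj

variable {k : Type u} [Field k] [IsAlgClosed k]

/-- The neutral component of a smooth group. -/
theorem exists_neutral (G : Over (Spec (CommRingCat.of k))) [GrpObj G] [Smooth G.hom] [QuasiCompact G.hom] :
    ∃ (G₀ : Over (Spec (CommRingCat.of k))) (_ : GrpObj G₀) (j : G₀ ⟶ G), IsMonHom j ∧ IsClosedImmersion j.left ∧
      IsOpenImmersion j.left ∧ Smooth G₀.hom ∧ QuasiCompact G₀.hom ∧ ConnectedSpace G₀.left ∧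
      ∀ (T : Over (Spec (CommRingCat.of k))) (x : T ⟶ G), ConnectedSpace T.left →
        η[G].left (IsLocalRing.closedPoint k) ∈ Set.range x.left → ∃ x' : T ⟶ G₀, x' ≫ j = x := by
  haveI : IsSeparated G.hom := GrpSchField.isSeparated G
  obtain ⟨H, _, j₀, hj₀, hj₀o, hrange, hHs, hHq⟩ := GrothLib.Neutral.exists_neutralPart G
  haveI := hj₀; haveI := hj₀o; haveI := hHs
  let p : ↥(𝟙_ (Over (Spec (CommRingCat.of k)))).left := IsLocalRing.closedPoint k
  have hrg : Set.range j₀.left.base = connectedComponent (η[G].left.base p) := by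
    rw [hrange, GrothLib.Induce27.neutralSet_eq G p]
  haveI : IsClosedImmersion j₀.left := IsClosedImmersion.of_isPreimmersion j₀.left (by
    show IsClosed (Set.range j₀.left.base)
    rw [hrg]; exact isClosed_connectedComponent)
  haveI : ConnectedSpace H.left := by
    haveI : ConnectedSpace (Set.range j₀.left.base) := Subtype.connectedSpace (by
      rw [hrg]; exact isConnected_connectedComponent)
    exact j₀.left.isOpenEmbedding.toIsEmbedding.toHomeomorph.symm.surjective.connectedSpace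
      j₀.left.isOpenEmbedding.toIsEmbedding.toHomeomorph.symm.continuous
  refine ⟨H, inferInstance, j₀, hj₀, inferInstance, hj₀o, hHs, hHq, inferInstance, fun T x hT hmem => ?_⟩
  have hsub : Set.range x.left ⊆ Set.range j₀.left := by
    show Set.range x.left.base ⊆ Set.range j₀.left.base
    rw [hrg]
    exact (isPreconnected_range x.left.continuous).subset_connectedComponent hmem
  exact ⟨Over.homMk (IsOpenImmersion.lift j₀.left x.left hsub) (by
    rw [← Over.w j₀, ← Category.assoc, IsOpenImmersion.lift_fac]; exact Over.w x),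
    Over.OverMorphism.ext (IsOpenImmersion.lift_fac _ _ _)⟩

theorem eta_mem_range {G H : Over (Spec (CommRingCat.of k))} [GrpObj G] [GrpObj H] (f : H ⟶ G) [IsMonHom f] :
    η[G].left (IsLocalRing.closedPoint k) ∈ Set.range f.left :=
  ⟨η[H].left (IsLocalRing.closedPoint k), by rw [← Scheme.Hom.comp_apply, ← Over.comp_left, IsMonHom.one_hom]⟩

/-- The affine part of the neutral component lies in the affine part of the group. -/
theorem affPart_le {G NG G₀ N₀ : Over (Spec (CommRingCat.of k))} [GrpObj G] [GrpObj NG] [GrpObj G₀] [GrpObj N₀]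
    [Smooth G.hom] [QuasiCompact G.hom] (iG : NG ⟶ G)
    (hNGmax : ∀ (N' : Over (Spec (CommRingCat.of k))) [GrpObj N'] (i' : N' ⟶ G) [IsMonHom i'] [IsClosedImmersion i'.left]
      [Smooth N'.hom] [ConnectedSpace ↥N'.left] [IsAffine N'.left], AlgGrp.IsNormalHom i' → ∃ f : N' ⟶ NG, f ≫ iG = i')
    (j : G₀ ⟶ G) [IsMonHom j] [IsClosedImmersion j.left] [Smooth G₀.hom] [QuasiCompact G₀.hom] [ConnectedSpace G₀.left]
    (huniv : ∀ (T : Over (Spec (CommRingCat.of k))) (x : T ⟶ G), ConnectedSpace T.left →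
        η[G].left (IsLocalRing.closedPoint k) ∈ Set.range x.left → ∃ x' : T ⟶ G₀, x' ≫ j = x)
    (i₀ : N₀ ⟶ G₀) [IsMonHom i₀] [IsClosedImmersion i₀.left] [Smooth N₀.hom] [ConnectedSpace N₀.left]
    [IsAffine N₀.left] (hN₀ : AlgGrp.IsNormalHom i₀)
    (hmax₀ : ∀ (N' : Over (Spec (CommRingCat.of k))) [GrpObj N'] (i' : N' ⟶ G₀) [IsMonHom i'] [IsClosedImmersion i'.left]
      [Smooth N'.hom] [ConnectedSpace ↥N'.left] [IsAffine N'.left], AlgGrp.IsNormalHom i' → ∃ f : N' ⟶ N₀, f ≫ i₀ = i') :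
    ∃ f : N₀ ⟶ NG, f ≫ iG = i₀ ≫ j := by
  haveI : IsClosedImmersion (i₀ ≫ j).left := inferInstanceAs (IsClosedImmersion (i₀.left ≫ j.left))
  haveI : IsReduced G.left := Rigidity.isReduced_of_smooth G.hom
  haveI : IsReduced N₀.left := Rigidity.isReduced_of_smooth N₀.hom
  haveI : IsReduced (G ⊗ N₀).left := GrpSchField.isReduced_pullback G.hom N₀.hom
  haveI : LocallyOfFiniteType (G ⊗ N₀).hom :=
    inferInstanceAs (LocallyOfFiniteType (pullback.fst G.hom N₀.hom ≫ G.hom))
  haveI : JacobsonSpace (G ⊗ N₀).left := LocallyOfFiniteType.jacobsonSpace (G ⊗ N₀).hom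
  let c : G ⊗ N₀ ⟶ G := fst G N₀ * (snd G N₀ ≫ i₀ ≫ j) * (fst G N₀)⁻¹
  have hpt : ∀ z : 𝟙_ (Over (Spec (CommRingCat.of k))) ⟶ G ⊗ N₀,
      c.left.base (Flag27.cl z) ∈ Set.range (i₀ ≫ j).left := by
    intro z
    let g := z ≫ fst G N₀
    haveI := Flag27.isMonHom_conjBy g (i₀ ≫ j)
    haveI := Flag27.isClosedImmersion_conjBy g (i₀ ≫ j)
    obtain ⟨x', hx'⟩ := huniv N₀ (AGF.conjBy g (i₀ ≫ j)) inferInstance (eta_mem_range _)
    haveI : Mono j := Over.mono_of_mono_left j
    haveI : IsMonHom x' := GrpSchField.isMonHom_of_mul x' (by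
      rw [← cancel_mono j, Category.assoc, hx', IsMonHom.mul_hom, Category.assoc, IsMonHom.mul_hom,
        ← Category.assoc, tensorHom_comp_tensorHom, hx'])
    haveI : IsClosedImmersion (x'.left ≫ j.left) := by rw [← Over.comp_left, hx']; infer_instance
    haveI : IsClosedImmersion x'.left := IsClosedImmersion.of_comp x'.left j.left
    obtain ⟨f, hf⟩ := Chev24.factor_affine i₀ hmax₀ hN₀ N₀ x'
    refine ⟨f.left.base (Flag27.cl (z ≫ snd G N₀)), ?_⟩
    rw [← Scheme.Hom.comp_apply, ← Over.comp_left, ← Category.assoc, hf, hx', ← Flag27.cl_comp, ← Flag27.cl_comp,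
      Flag27.comp_conjBy]
    congr 1
    simp only [c, g, MonObj.comp_mul, GrpObj.comp_inv, Category.assoc,
      toUnit_unique (toUnit (𝟙_ (Over (Spec (CommRingCat.of k))))) (𝟙 _), Category.id_comp]
  have hsub : Set.range c.left ⊆ Set.range (i₀ ≫ j).left := by
    have huniv' : c.left.base ⁻¹' Set.range (i₀ ≫ j).left = Set.univ := by
      refine Set.eq_univ_of_univ_subset (le_trans (closure_closedPoints (X := (G ⊗ N₀).left)).ge ?_)
      refine closure_minimal (fun p hp => ?_)
        ((i₀ ≫ j).left.isClosedEmbedding.isClosed_range.preimage c.left.continuous)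
      obtain ⟨z, rfl⟩ := Flag27.exists_cl hp
      exact hpt z
    rintro _ ⟨p, rfl⟩
    exact huniv'.ge (Set.mem_univ p)
  obtain ⟨l, hl⟩ := RedSub.exists_lift c.left (i₀ ≫ j).left hsub
  let c' : G ⊗ N₀ ⟶ N₀ := Over.homMk l (by rw [← Over.w (i₀ ≫ j), reassoc_of% hl]; exact Over.w c)
  have hc' : c' ≫ i₀ ≫ j = c := Over.OverMorphism.ext hl
  exact hNGmax N₀ (i₀ ≫ j) fun T g x => ⟨lift g x ≫ c', by
    rw [Category.assoc, hc']
    simp only [c, MonObj.comp_mul, GrpObj.comp_inv, lift_fst, lift_snd_assoc]⟩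

/-- The affine part of a smooth group surjects onto that of a quotient. -/
theorem surjective_affPart_general {G Q NG NQ : Over (Spec (CommRingCat.of k))} [GrpObj G] [GrpObj Q] [GrpObj NG]
    [GrpObj NQ] [Smooth G.hom] [QuasiCompact G.hom] [Smooth Q.hom] [QuasiCompact Q.hom]
    (π : G ⟶ Q) [IsMonHom π] [Flat π.left] [Surjective π.left]
    (iG : NG ⟶ G) [IsMonHom iG] [IsClosedImmersion iG.left] [Smooth NG.hom] [ConnectedSpace NG.left] [IsAffine NG.left]
    (hNG : AlgGrp.IsNormalHom iG)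
    (hNGmax : ∀ (N' : Over (Spec (CommRingCat.of k))) [GrpObj N'] (i' : N' ⟶ G) [IsMonHom i'] [IsClosedImmersion i'.left]
      [Smooth N'.hom] [ConnectedSpace ↥N'.left] [IsAffine N'.left], AlgGrp.IsNormalHom i' → ∃ f : N' ⟶ NG, f ≫ iG = i')
    (iQ : NQ ⟶ Q) [IsMonHom iQ] [IsClosedImmersion iQ.left] [Smooth NQ.hom] [ConnectedSpace NQ.left] [IsAffine NQ.left]
    (hNQmax : ∀ (N' : Over (Spec (CommRingCat.of k))) [GrpObj N'] (i' : N' ⟶ Q) [IsMonHom i'] [IsClosedImmersion i'.left]
      [Smooth N'.hom] [ConnectedSpace ↥N'.left] [IsAffine N'.left], AlgGrp.IsNormalHom i' → ∃ f : N' ⟶ NQ, f ≫ iQ = i') :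
    ∃ f : NG ⟶ NQ, f ≫ iQ = iG ≫ π ∧ Surjective f.left := by
  obtain ⟨I, _, jI, p, hjI, hp, hjIc, hIs, hIc, hIa, hIn, hps, hpj⟩ := exists_image_normal π iG hNG
  haveI := hjI; haveI := hp; haveI := hjIc; haveI := hIs; haveI := hIc; haveI := hIa
  obtain ⟨a, ha⟩ := hNQmax I jI hIn
  refine ⟨p ≫ a, by rw [Category.assoc, ha, hpj], ?_⟩
  obtain ⟨R, _, r, hr, hRs, hRq, hrf, hrs, -, hker⟩ := Chev24.exists_quot jI hIn
  haveI := hr; haveI := hRs; haveI := hRq; haveI := hrf; haveI := hrs
  obtain ⟨G₀, _, j, hj, hjc, hjo, hG₀s, hG₀q, hG₀c, huniv⟩ := exists_neutral G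
  haveI := hj; haveI := hjc; haveI := hjo; haveI := hG₀s; haveI := hG₀q; haveI := hG₀c
  obtain ⟨N₀, _, i₀, hi₀, hi₀c, hN₀s, hN₀c, hN₀a, hN₀, hmax₀⟩ := Chev24.exists_affPart (G := G₀)
  haveI := hi₀; haveI := hi₀c; haveI := hN₀s; haveI := hN₀c; haveI := hN₀a
  obtain ⟨f₀, hf₀⟩ := affPart_le iG hNGmax j huniv i₀ hN₀ hmax₀
  obtain ⟨A, _, q, hq, hAs, hAq, hqf, hqs, -, hkq⟩ := Chev24.exists_quot i₀ hN₀
  haveI := hq; haveI := hAs; haveI := hAq; haveI := hqf; haveI := hqs
  haveI := Chev24.isProper_quotient i₀ hmax₀ q hkq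
  haveI : IsSeparated R.hom := GrpSchField.isSeparated R
  obtain ⟨e, he, hqe⟩ := exists_desc_ker q hkq ((j ≫ π) ≫ r) (by
    rw [← Category.assoc, ← Category.assoc, ← hf₀, Category.assoc f₀ iG π, ← hpj, Category.assoc, Category.assoc,
      GrpSchField.comp_eq_one hker, MonObj.comp_one, MonObj.comp_one])
  haveI : QuasiCompact e.left := by
    haveI : QuasiCompact (e.left ≫ R.hom) := by rw [Over.w]; infer_instance
    exact QuasiCompact.of_comp e.left R.hom
  obtain ⟨P, _, s, b, hs, hb, hsb, hss, hsf, hsl, hbm, hPl, -⟩ := Neutral.exists_factor_field e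
  haveI := hs; haveI := hb; haveI := hss; haveI := hbm; haveI := hPl
  haveI := (Neutral.isClosedImmersion_factor e hsb).1
  haveI : IsSeparated P.hom := GrpSchField.isSeparated P
  haveI := isProper_of_surjective s
  haveI : IsReduced NQ.left := Rigidity.isReduced_of_smooth NQ.hom
  have hrange : Set.range b.left = Set.range ((j ≫ π) ≫ r).left := by
    rw [← hqe, ← hsb, Over.comp_left, Over.comp_left]
    simp only [Scheme.Hom.comp_base, TopCat.coe_comp, Set.range_comp, q.left.surjective.range_eq,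
      s.left.surjective.range_eq, Set.image_univ]
  haveI := AlbTors16.lfp_of_surj π
  haveI := AlbTors16.lfp_of_surj r
  have hopen : IsOpen (Set.range b.left) := by
    rw [hrange]
    exact (r.left.isOpenMap.comp (π.left.isOpenMap.comp j.left.isOpenEmbedding.isOpenMap)).isOpen_range
  have hsub : Set.range (iQ ≫ r).left ⊆ Set.range b.left :=
    (isPreconnected_range (iQ ≫ r).left.continuous).subset_isClopen ⟨b.left.isClosedEmbedding.isClosed_range, hopen⟩
      ⟨_, eta_mem_range (iQ ≫ r), eta_mem_range b⟩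
  obtain ⟨l, hl⟩ := RedSub.exists_lift (iQ ≫ r).left b.left hsub
  let l' : NQ ⟶ P := Over.homMk l (by rw [← Over.w b, reassoc_of% hl]; exact Over.w (iQ ≫ r))
  have hl' : l' ≫ b = iQ ≫ r := Over.OverMorphism.ext hl
  haveI : IsMonHom l' := GrpSchField.isMonHom_of_mul l' (by
    rw [← cancel_mono b, Category.assoc, hl', IsMonHom.mul_hom, Category.assoc, IsMonHom.mul_hom,
      ← Category.assoc, tensorHom_comp_tensorHom, hl'])
  obtain ⟨m, hm⟩ := GrpSchField.exists_lift_of_comp_eq_one hker iQ (by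
    rw [← hl', AlbTors16.hom_eq_one_affine_proper l', MonObj.one_comp])
  refine ⟨fun x => ?_⟩
  obtain ⟨y, hy⟩ := hps.surj (m.left x)
  refine ⟨y, iQ.left.isClosedEmbedding.injective ?_⟩
  rw [← Scheme.Hom.comp_apply, ← Over.comp_left, Category.assoc, ha, Over.comp_left, Scheme.Hom.comp_apply, hy,
    ← Scheme.Hom.comp_apply, ← Over.comp_left, hm]

end GrothLib.AffPart16
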